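import Mathlib
import Cfsg.Prelude.Def_GeometricClasses

/-!
# S3499, geometric layer: the facts about `A = T_α` (preimage in the linear group) used by the kill rows

`Γ` : the linear group (`SL`, `Sp`, `SU`, `Ω`) as a subgroup of `GL(ι, F)`; `A ≤ Γ` : the preimage of the point
stabiliser of the socle `T = Γ / scalars` of an extremely primitive group.  `EPL Γ A` collects what the abstract
EP engine gives.  All kill rows have the form `EPL Γ A → (A of a geometric type) → False`.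
-/

set_option autoImplicit false

namespace Cfsg.Agent.H91.EP

open Cfsg Cfsg.Geo
open scoped MatrixGroups

variable {ι : Type} [Fintype ι] [DecidableEq ι] {F : Type*} [Field F]

/-- `A ∩ x A x⁻¹` -/
def Mx (A : Subgroup (GL ι F)) (x : GL ι F) : Subgroup (GL ι F) := A ⊓ A.map (MulAut.conj x).toMonoidHom

theorem mem_Mx {A : Subgroup (GL ι F)} {x m : GL ι F} : m ∈ Mx A x ↔ m ∈ A ∧ x⁻¹ * m * x ∈ A := by
  constructor
  · rintro ⟨h1, a, ha, h2⟩
    refine ⟨h1, ?_⟩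
    have h3 : x * a * x⁻¹ = m := by simpa [MulAut.conj_apply] using h2
    rw [← h3]
    simpa [mul_assoc] using ha
  · rintro ⟨h1, h2⟩
    exact ⟨h1, _, h2, by simp [MulAut.conj_apply, mul_assoc]⟩

/-- `y` normalises `X` -/
def Nz (X : Subgroup (GL ι F)) (g : GL ι F) : Prop := ∀ y ∈ X, g * y * g⁻¹ ∈ X

/-- `M` modulo scalars is abelian -/
def AbS (M : Subgroup (GL ι F)) : Prop := ∀ a ∈ M, ∀ b ∈ M, a * b * a⁻¹ * b⁻¹ ∈ scalars ι F

/-- every element of `M` has a `p`-power which is a scalar -/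
def PgS (p : ℕ) (M : Subgroup (GL ι F)) : Prop := ∀ a ∈ M, ∃ k : ℕ, a ^ p ^ k ∈ scalars ι F

/-- `N` is a normal subgroup of `A`, abelian and non-trivial modulo scalars. -/
structure AbN (A N : Subgroup (GL ι F)) : Prop where
  le : N ≤ A
  normal : ∀ a ∈ A, Nz N a
  abs : AbS N
  ne : ¬ N ≤ scalars ι F

/-- `K` is a component of `A` modulo scalars: `K ⊴ B ⊴ A` and `K` is non-abelian simple modulo scalars. -/
structure Comp (A B K : Subgroup (GL ι F)) : Prop where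
  le : B ≤ A
  normal : ∀ a ∈ A, Nz B a
  le' : K ≤ B
  normal' : ∀ b ∈ B, Nz K b
  simple : IsSimpleGroup (K ⧸ (scalars ι F).subgroupOf K)
  nonab : ¬ IsMulCommutative (K ⧸ (scalars ι F).subgroupOf K)

/-- the `n`-th derived subgroup of `M`, as a subgroup of `GL(ι, F)` -/
def dS (M : Subgroup (GL ι F)) (n : ℕ) : Subgroup (GL ι F) := (derivedSeries M n).map M.subtype

/-- What extreme primitivity gives for the preimage `A` of `T_α` in the linear group `Γ`. -/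
structure EPL (Γ A : Subgroup (GL ι F)) : Prop where
  /-- `T` is primitive: `A` is maximal in `Γ` -/
  max : IsMaximalIn Γ A
  scal : Γ ⊓ scalars ι F ≤ A
  /-- two-point stabilisers are not trivial in `T` -/
  ne : ∀ x ∈ Γ, x ∉ A → ¬ Mx A x ≤ scalars ι F
  /-- **K1** `N_A(M0) = M0` -/
  norm : ∀ x ∈ Γ, x ∉ A → ∀ g ∈ A, Nz (Mx A x) g → g ∈ Mx A x
  /-- **K2** `N_A(O_p(M0)) = M0` if `O_p(M0) ≠ 1` -/
  pcore : ∀ x ∈ Γ, x ∉ A → ∀ p : ℕ, p.Prime → ∀ X : Subgroup (GL ι F), X ≤ Mx A x → (∀ m ∈ Mx A x, Nz X m) →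
    PgS p X → (∀ Y : Subgroup (GL ι F), Y ≤ Mx A x → (∀ m ∈ Mx A x, Nz Y m) → PgS p Y → Y ≤ X ⊔ scalars ι F) →
    ¬ X ≤ scalars ι F → ∀ g ∈ A, Nz X g → g ∈ Mx A x
  /-- **K2'** the same with the members of the derived series -/
  der : ∀ x ∈ Γ, x ∉ A → ∀ n : ℕ, ¬ dS (Mx A x) n ≤ scalars ι F → ∀ g ∈ A, Nz (dS (Mx A x) n) g → g ∈ Mx A x
  /-- **K3** `M0` is not abelian (unless `F(A) ≠ 1`) -/
  abel : ∀ x ∈ Γ, x ∉ A → AbS (Mx A x) → ∃ N, AbN A N
  /-- **K3'** `M0` is not a `p`-group, `p` odd (unless `F(A) ≠ 1`) -/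
  odd : ∀ x ∈ Γ, x ∉ A → ∀ p : ℕ, p.Prime → p ≠ 2 → PgS p (Mx A x) → ∃ N, AbN A N
  /-- **K4** characteristic subgroups of `A` are transitive on the suborbits -/
  tr : ∀ n : ℕ, ¬ dS A n ≤ scalars ι F → ∀ x ∈ Γ, x ∉ A → A ≤ dS A n ⊔ Mx A x
  /-- **K5** (affine case) an element of an abelian normal subgroup of `A` fixes only one point -/
  fx : ∀ N, AbN A N → ∀ z ∈ N, z ∉ scalars ι F → ∀ g ∈ Γ, g * z * g⁻¹ ∈ A → g ∈ A
  /-- **K5'** (affine case) a self-centralising abelian normal subgroup is regular on the suborbits -/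
  reg : ∀ N, AbN A N → (∀ a ∈ A, (∀ y ∈ N, a * y * a⁻¹ * y⁻¹ ∈ scalars ι F) → a ∈ N ⊔ scalars ι F) →
    ∀ x ∈ Γ, x ∉ A → N ⊓ Mx A x ≤ scalars ι F ∧ A ≤ N ⊔ Mx A x
  /-- **K5''** nilpotent normal subgroups are abelian -/
  pab : ∀ p : ℕ, p.Prime → ∀ X : Subgroup (GL ι F), X ≤ A → (∀ a ∈ A, Nz X a) → PgS p X → AbS X
  /-- **K6** no abelian normal subgroup together with a component -/
  fe : ∀ N B K, AbN A N → Comp A B K → False
  /-- **K6'** all components have the same order -/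
  iso : ∀ B K B' K', Comp A B K → Comp A B' K' →
    Nat.card (K ⧸ (scalars ι F).subgroupOf K) = Nat.card (K' ⧸ (scalars ι F).subgroupOf K')

namespace EPL

variable {Γ A : Subgroup (GL ι F)}

/-- The form in which K1 is mostly used: some `g ∈ A` which is not in `A ∩ xAx⁻¹` commutes with it modulo scalars
in `Mx A x` or, more generally, normalises it. -/
theorem false_of_norm (h : EPL Γ A) {x g : GL ι F} (hx : x ∈ Γ) (hxA : x ∉ A) (hg : g ∈ A)
    (hgx : x⁻¹ * g * x ∉ A) (hn : ∀ m, m ∈ A → x⁻¹ * m * x ∈ A → x⁻¹ * (g * m * g⁻¹) * x ∈ A) : False := by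
  refine hgx (mem_Mx.1 (h.norm x hx hxA g hg ?_)).2
  intro m hm
  obtain ⟨h1, h2⟩ := mem_Mx.1 hm
  exact mem_Mx.2 ⟨A.mul_mem (A.mul_mem hg h1) (A.inv_mem hg), hn m h1 h2⟩

/-- `M0` abelian is impossible if there is a component. -/
theorem false_of_abel (h : EPL Γ A) {x : GL ι F} (hx : x ∈ Γ) (hxA : x ∉ A) (ha : AbS (Mx A x))
    {B K : Subgroup (GL ι F)} (hc : Comp A B K) : False := by
  obtain ⟨N, hN⟩ := h.abel x hx hxA ha
  exact h.fe N B K hN hc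

theorem false_of_fx (h : EPL Γ A) {N : Subgroup (GL ι F)} (hN : AbN A N) {z g : GL ι F} (hz : z ∈ N)
    (hzs : z ∉ scalars ι F) (hg : g ∈ Γ) (hgz : g * z * g⁻¹ ∈ A) (hgA : g ∉ A) : False :=
  hgA (h.fx N hN z hz hzs g hg hgz)

/-- `A` is the intersection with `Γ` of every subgroup that contains it and does not contain `Γ`. -/
theorem eq_inf (h : EPL Γ A) {M : Subgroup (GL ι F)} (hM : A ≤ M) (hn : ¬ Γ ≤ M) : A = M ⊓ Γ := by
  rcases h.max.2 (M ⊓ Γ) (le_inf hM h.max.1.le) inf_le_right with h1 | h1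
  · exact h1.symm
  · exact absurd (by rw [← h1]; exact inf_le_left) hn

/-- **Norm kill, in terms of the geometric group `M`.** `A ≤ M`; `x ∈ Γ` outside `M`; `g ∈ Γ ∩ M` with `x⁻¹gx ∉ M`
such that for `m ∈ Γ ∩ M` with `x⁻¹mx ∈ M` also `x⁻¹(gmg⁻¹)x ∈ M`. -/
theorem kill (h : EPL Γ A) {M : Subgroup (GL ι F)} (hM : A ≤ M) {x g : GL ι F} (hx : x ∈ Γ) (hxM : x ∉ M)
    (hg : g ∈ Γ) (hgM : g ∈ M) (hgx : x⁻¹ * g * x ∉ M)
    (hn : ∀ m ∈ Γ, m ∈ M → x⁻¹ * m * x ∈ M → x⁻¹ * (g * m * g⁻¹) * x ∈ M) : False := by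
  have hA : A = M ⊓ Γ := h.eq_inf hM fun hc => hxM (hc hx)
  have hxA : x ∉ A := fun hc => hxM (hM hc)
  refine h.false_of_norm hx hxA (g := g) (by rw [hA]; exact ⟨hgM, hg⟩) (fun hc => hgx (hM hc)) ?_
  intro m hm hm2
  have hmΓ : m ∈ Γ := h.max.1.le hm
  rw [hA]
  refine ⟨hn m hmΓ (hM hm) (hM hm2), ?_⟩
  exact Γ.mul_mem (Γ.mul_mem (Γ.inv_mem hx) (Γ.mul_mem (Γ.mul_mem hg hmΓ) (Γ.inv_mem hg))) hx

/-- the special case of `kill` in which `g` commutes with `Γ ∩ M ∩ xMx⁻¹` -/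
theorem kill_comm (h : EPL Γ A) {M : Subgroup (GL ι F)} (hM : A ≤ M) {x g : GL ι F} (hx : x ∈ Γ) (hxM : x ∉ M)
    (hg : g ∈ Γ) (hgM : g ∈ M) (hgx : x⁻¹ * g * x ∉ M)
    (hn : ∀ m ∈ Γ, m ∈ M → x⁻¹ * m * x ∈ M → g * m = m * g) : False := by
  refine h.kill hM hx hxM hg hgM hgx fun m h1 h2 h3 => ?_
  rw [hn m h1 h2 h3, mul_inv_cancel_right]
  exact h3

/-- **fx kill, in terms of `M`**: `N` normal abelian in `A`, `z ∈ N` not scalar, `g ∈ Γ`, `g ∉ M`, `gzg⁻¹ ∈ M`. -/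
theorem kill_fx (h : EPL Γ A) {M : Subgroup (GL ι F)} (hM : A ≤ M) {N : Subgroup (GL ι F)} (hN : AbN A N)
    {z g : GL ι F} (hz : z ∈ N) (hzs : z ∉ scalars ι F) (hg : g ∈ Γ) (hgM : g ∉ M) (hgz : g * z * g⁻¹ ∈ M) : False := by
  have hA : A = M ⊓ Γ := h.eq_inf hM fun hc => hgM (hc hg)
  have hzΓ : z ∈ Γ := h.max.1.le (hN.le hz)
  refine h.false_of_fx hN hz hzs hg ?_ (fun hc => hgM (hM hc))
  rw [hA]
  exact ⟨hgz, Γ.mul_mem (Γ.mul_mem hg hzΓ) (Γ.inv_mem hg)⟩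

end EPL

/-- the isometry group in `GL(ι, F)` of a two-argument form; `spGL m F = Iso (sympForm m F)`,
`GU n F q = Iso (hermForm n F q)` (by `rfl` or `Subgroup.ext`). -/
def Iso (f : (ι → F) → (ι → F) → F) : Subgroup (GL ι F) := preserving (Units.coeHom (Matrix ι ι F)) f

end Cfsg.Agent.H91.EP
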